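import Cfsg.Agent.Char.Linear
import Cfsg.Agent.CharInd.GenChar
import Mathlib.LinearAlgebra.Matrix.GeneralLinearGroup.Defs
import Mathlib.Data.ZMod.Basic

/-!
# Class functions on `GL (2, 3)`
-/

set_option autoImplicit false
set_option linter.unusedSectionVars false

noncomputable section

namespace Cfsg.Agent.GLTwoThree

/-- The group `GL (2, 3)`. -/
abbrev H : Type := GL (Fin 2) (ZMod 3)

/-- The elements of `GL (2, 3)`. -/
def elts : List (Matrix (Fin 2) (Fin 2) (ZMod 3) × Matrix (Fin 2) (Fin 2) (ZMod 3)) := [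
  (!![0, 1; 1, 0], !![0, 1; 1, 0]),
  (!![0, 1; 1, 1], !![2, 1; 1, 0]),
  (!![0, 1; 1, 2], !![1, 1; 1, 0]),
  (!![0, 1; 2, 0], !![0, 2; 1, 0]),
  (!![0, 1; 2, 1], !![1, 2; 1, 0]),
  (!![0, 1; 2, 2], !![2, 2; 1, 0]),
  (!![0, 2; 1, 0], !![0, 1; 2, 0]),
  (!![0, 2; 1, 1], !![1, 1; 2, 0]),
  (!![0, 2; 1, 2], !![2, 1; 2, 0]),
  (!![0, 2; 2, 0], !![0, 2; 2, 0]),
  (!![0, 2; 2, 1], !![2, 2; 2, 0]),
  (!![0, 2; 2, 2], !![1, 2; 2, 0]),
  (!![1, 0; 0, 1], !![1, 0; 0, 1]),
  (!![1, 0; 0, 2], !![1, 0; 0, 2]),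
  (!![1, 0; 1, 1], !![1, 0; 2, 1]),
  (!![1, 0; 1, 2], !![1, 0; 1, 2]),
  (!![1, 0; 2, 1], !![1, 0; 1, 1]),
  (!![1, 0; 2, 2], !![1, 0; 2, 2]),
  (!![1, 1; 0, 1], !![1, 2; 0, 1]),
  (!![1, 1; 0, 2], !![1, 1; 0, 2]),
  (!![1, 1; 1, 0], !![0, 1; 1, 2]),
  (!![1, 1; 1, 2], !![2, 2; 2, 1]),
  (!![1, 1; 2, 0], !![0, 2; 1, 1]),
  (!![1, 1; 2, 1], !![2, 1; 2, 2]),
  (!![1, 2; 0, 1], !![1, 1; 0, 1]),
  (!![1, 2; 0, 2], !![1, 2; 0, 2]),
  (!![1, 2; 1, 0], !![0, 1; 2, 1]),
  (!![1, 2; 1, 1], !![2, 2; 1, 2]),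
  (!![1, 2; 2, 0], !![0, 2; 2, 2]),
  (!![1, 2; 2, 2], !![2, 1; 1, 1]),
  (!![2, 0; 0, 1], !![2, 0; 0, 1]),
  (!![2, 0; 0, 2], !![2, 0; 0, 2]),
  (!![2, 0; 1, 1], !![2, 0; 1, 1]),
  (!![2, 0; 1, 2], !![2, 0; 2, 2]),
  (!![2, 0; 2, 1], !![2, 0; 2, 1]),
  (!![2, 0; 2, 2], !![2, 0; 1, 2]),
  (!![2, 1; 0, 1], !![2, 1; 0, 1]),
  (!![2, 1; 0, 2], !![2, 2; 0, 2]),
  (!![2, 1; 1, 0], !![0, 1; 1, 1]),
  (!![2, 1; 1, 1], !![1, 2; 2, 2]),
  (!![2, 1; 2, 0], !![0, 2; 1, 2]),
  (!![2, 1; 2, 2], !![1, 1; 2, 1]),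
  (!![2, 2; 0, 1], !![2, 2; 0, 1]),
  (!![2, 2; 0, 2], !![2, 1; 0, 2]),
  (!![2, 2; 1, 0], !![0, 1; 2, 2]),
  (!![2, 2; 1, 2], !![1, 2; 1, 1]),
  (!![2, 2; 2, 0], !![0, 2; 2, 1]),
  (!![2, 2; 2, 1], !![1, 1; 1, 2])]

theorem elts_spec : ∀ i : Fin 48, (elts[i.val]!).1 * (elts[i.val]!).2 = 1 ∧
    (elts[i.val]!).2 * (elts[i.val]!).1 = 1 := by decide +kernel

/-- The `i`-th element. -/
def el (i : Fin 48) : H :=
  ⟨(elts[i.val]!).1, (elts[i.val]!).2, (elts_spec i).1, (elts_spec i).2⟩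

theorem el_surjective_aux : ∀ a b c d : ZMod 3, a * d - b * c ≠ 0 →
    ∃ i : Fin 48, (elts[i.val]!).1 = !![a, b; c, d] := by decide +kernel

theorem el_injective : Function.Injective el := by
  have h : ∀ i j : Fin 48, el i = el j → i = j := by decide +kernel
  exact fun i j => h i j

theorem el_surjective : Function.Surjective el := by
  intro g
  have hd : (g : Matrix (Fin 2) (Fin 2) (ZMod 3)).det ≠ 0 :=
    ((Matrix.isUnit_iff_isUnit_det _).1 g.isUnit).ne_zero
  rw [Matrix.det_fin_two] at hd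
  obtain ⟨i, hi⟩ := el_surjective_aux _ _ _ _ hd
  refine ⟨i, Units.ext ?_⟩
  show (elts[i.val]!).1 = _
  rw [hi]
  exact (Matrix.eta_fin_two _).symm

/-- Enumeration. -/
def elEquiv : Fin 48 ≃ H := Equiv.ofBijective el ⟨el_injective, el_surjective⟩

theorem forall_iff {P : H → Prop} : (∀ g, P g) ↔ ∀ i, P (el i) :=
  el_surjective.forall

theorem natCard_H : Nat.card H = 48 := by
  rw [← Nat.card_congr elEquiv, Nat.card_eq_fintype_card, Fintype.card_fin]

theorem sum_el [Fintype H] {M : Type*} [AddCommMonoid M] (f : H → M) :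
    ∑ g : H, f g = ∑ i, f (el i) :=
  (elEquiv.sum_comp f).symm

/-- The diagonal involution. -/
def s0 : H := ⟨!![1, 0; 0, 2], !![1, 0; 0, 2], by decide +kernel, by decide +kernel⟩
/-- An element of order 4. -/
def g4 : H := ⟨!![0, 2; 1, 0], !![0, 1; 2, 0], by decide +kernel, by decide +kernel⟩
/-- An element of order 8. -/
def u0 : H := ⟨!![1, 1; 1, 0], !![0, 1; 1, 2], by decide +kernel, by decide +kernel⟩
/-- An element of order 3. -/
def x3 : H := ⟨!![1, 1; 0, 1], !![1, 2; 0, 1], by decide +kernel, by decide +kernel⟩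

/-- Representatives of the classes. -/
def rep : Fin 8 → H := ![1, -1, s0, g4, u0, u0⁻¹, x3, -x3]

/-- The class of an element. -/
def cls (g : H) : Fin 8 :=
  if g = 1 then 0 else if g = -1 then 1 else if g * g = 1 then 2 else if g * g = -1 then 3
  else if g * g * (g * g) = -1 then
    (if (g : Matrix (Fin 2) (Fin 2) (ZMod 3)).trace = 1 then 4 else 5)
  else if g * g * g = 1 then 6 else 7

theorem cls_conj : ∀ i, ∃ k, el k * rep (cls (el i)) = el i * el k := by decide +kernel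

theorem isConj_rep (g : H) : IsConj (rep (cls g)) g := by
  obtain ⟨i, rfl⟩ := el_surjective g
  obtain ⟨k, hk⟩ := cls_conj i
  exact isConj_iff.2 ⟨el k, by rw [hk, mul_inv_cancel_right]⟩

/-- The first special class function. -/
def bOne (g : H) : ℤ := if g * g = -1 then 4 else if g * g * (g * g) = -1 then 2 else 0

/-- The second special class function. -/
def bTwo (g : H) : ℤ := if g * g = -1 then 4 else if g * g * (g * g) = -1 then -2 else 0

/-- A Sylow `2`-subgroup. -/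
def sylow : Subgroup H where
  carrier := {g | g * g4 = g4 * g ∨ g * g4 = -(g4 * g)}
  one_mem' := Or.inl (by rw [one_mul, mul_one])
  mul_mem' {a b} ha hb := by
    have h : ∀ a b : H, (a * g4 = g4 * a ∨ a * g4 = -(g4 * a)) →
        (b * g4 = g4 * b ∨ b * g4 = -(g4 * b)) →
        (a * b * g4 = g4 * (a * b) ∨ a * b * g4 = -(g4 * (a * b))) := by
      intro a b ha hb
      rcases ha with ha | ha <;> rcases hb with hb | hb
      · exact Or.inl (by rw [mul_assoc, hb, ← mul_assoc, ha, mul_assoc])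
      · exact Or.inr (by rw [mul_assoc, hb, mul_neg, ← mul_assoc, ha, mul_assoc])
      · exact Or.inr (by rw [mul_assoc, hb, ← mul_assoc, ha, neg_mul, mul_assoc])
      · exact Or.inl (by rw [mul_assoc, hb, mul_neg, ← mul_assoc, ha, neg_mul, neg_neg, mul_assoc])
    exact h a b ha hb
  inv_mem' {a} ha := by
    rcases ha with ha | ha
    · exact Or.inl (Commute.inv_left ha)
    · refine Or.inr ?_
      rw [inv_mul_eq_iff_eq_mul, mul_neg, ← mul_assoc, ha, neg_mul, neg_neg, mul_inv_cancel_right]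

/-- The upper triangular subgroup. -/
def borel : Subgroup H where
  carrier := {g | (g : Matrix (Fin 2) (Fin 2) (ZMod 3)) 1 0 = 0}
  one_mem' := by decide
  mul_mem' {a b} ha hb := by
    show (((a * b : H) : Matrix (Fin 2) (Fin 2) (ZMod 3))) 1 0 = 0
    rw [Units.val_mul, Matrix.mul_apply, Fin.sum_univ_two]
    rw [show (a : Matrix (Fin 2) (Fin 2) (ZMod 3)) 1 0 = 0 from ha,
      show (b : Matrix (Fin 2) (Fin 2) (ZMod 3)) 1 0 = 0 from hb, zero_mul, mul_zero, add_zero]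
  inv_mem' {a} ha := by
    have h : ∀ i, ((el i : H) : Matrix (Fin 2) (Fin 2) (ZMod 3)) 1 0 = 0 →
        (((el i)⁻¹ : H) : Matrix (Fin 2) (Fin 2) (ZMod 3)) 1 0 = 0 := by decide +kernel
    obtain ⟨i, rfl⟩ := el_surjective a
    exact h i ha

instance : DecidablePred (· ∈ sylow) := fun g =>
  inferInstanceAs (Decidable (g * g4 = g4 * g ∨ g * g4 = -(g4 * g)))

instance : DecidablePred (· ∈ borel) := fun g =>
  inferInstanceAs (Decidable ((g : Matrix (Fin 2) (Fin 2) (ZMod 3)) 1 0 = 0))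

theorem card_sylow_el : (Finset.univ.filter fun i => el i ∈ sylow).card = 16 := by decide +kernel

theorem card_borel_el : (Finset.univ.filter fun i => el i ∈ borel).card = 12 := by decide +kernel

theorem natCard_sub (S : Subgroup H) [DecidablePred (· ∈ S)] :
    Nat.card S = (Finset.univ.filter fun i => el i ∈ S).card := by
  rw [← Fintype.card_subtype, ← Nat.card_eq_fintype_card]
  exact Nat.card_congr (elEquiv.subtypeEquiv fun _ => Iff.rfl).symm

theorem natCard_sylow : Nat.card sylow = 16 := (natCard_sub _).trans card_sylow_el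

theorem natCard_borel : Nat.card borel = 12 := (natCard_sub _).trans card_borel_el

theorem indFun_one [Fintype H] (S : Subgroup H) [DecidablePred (· ∈ S)] (g : H) :
    (Nat.card S : ℂ) * Cfsg.indFun S (fun _ => (1 : ℂ)) g =
      (((Finset.univ.filter fun k => (el k)⁻¹ * g * el k ∈ S).card : ℕ) : ℂ) := by
  rw [CharInd.card_mul_indFun, sum_el, ← Finset.sum_boole]
  refine Finset.sum_congr rfl fun k _ => ?_
  by_cases h : (el k)⁻¹ * g * el k ∈ S
  · rw [CharInd.extendByZero_mem _ _ h, if_pos h]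
  · rw [CharInd.extendByZero_notMem _ _ h, if_neg h]

theorem bOne_eq_aux : ∀ i, (48 : ℤ) * bOne (el i) = 48 +
    3 * ((Finset.univ.filter fun k => (el k)⁻¹ * el i * el k ∈ sylow).card : ℤ) -
    4 * ((Finset.univ.filter fun k => (el k)⁻¹ * el i * el k ∈ borel).card : ℤ) := by
  decide +kernel

/-- The sign of the determinant. -/
def detSign : H →* ℂˣ where
  toFun g := if (g : Matrix (Fin 2) (Fin 2) (ZMod 3)).det = 1 then 1 else -1
  map_one' := by rw [if_pos (by simp)]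
  map_mul' a b := by
    have h : ∀ x : ZMod 3, x ≠ 0 → x = 1 ∨ x = 2 := by decide
    rw [Units.val_mul, Matrix.det_mul]
    rcases h _ ((Matrix.isUnit_iff_isUnit_det _).1 a.isUnit).ne_zero with ha | ha <;>
      rcases h _ ((Matrix.isUnit_iff_isUnit_det _).1 b.isUnit).ne_zero with hb | hb <;>
      simp [ha, hb, show (2 : ZMod 3) * 2 = 1 from rfl, show (2 : ZMod 3) ≠ 1 from by decide]

/-- The sign of the determinant as an integer. -/
def detInt (g : H) : ℤ := if (g : Matrix (Fin 2) (Fin 2) (ZMod 3)).det = 1 then 1 else -1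

theorem detSign_eq (g : H) : ((detSign g : ℂˣ) : ℂ) = (detInt g : ℂ) := by
  simp only [detSign, detInt, MonoidHom.coe_mk, OneHom.coe_mk]
  split <;> simp

theorem bTwo_eq_aux : ∀ i, bTwo (el i) = detInt (el i) * bOne (el i) := by decide +kernel

theorem genChar_bOne : IsGeneralizedCharacter H fun g => (bOne g : ℂ) := by
  classical
  letI := Fintype.ofFinite H
  have h1 : ∀ S : Subgroup H, IsGeneralizedCharacter H (Cfsg.indFun S fun _ => (1 : ℂ)) := fun S =>
    CharInd.genChar_indFun S (CharInd.genChar_irr CharInd.irr_one_const)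
  have h := CharInd.genChar_add (CharInd.genChar_irr (CharInd.irr_one_const (G := H)))
    (CharInd.genChar_sub (h1 sylow) (h1 borel))
  refine (congrArg (IsGeneralizedCharacter H) (funext fun g => ?_)).mp h
  obtain ⟨i, rfl⟩ := el_surjective g
  have hS := indFun_one sylow (el i)
  have hB := indFun_one borel (el i)
  rw [natCard_sylow] at hS
  rw [natCard_borel] at hB
  have hz := congrArg (fun z : ℤ => (z : ℂ)) (bOne_eq_aux i)
  push_cast at hz hS hB
  rw [← hS, ← hB] at hz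
  simp only [Pi.add_apply, Pi.sub_apply]
  linear_combination (-(1 : ℂ) / 48) * hz

theorem genChar_bTwo : IsGeneralizedCharacter H fun g => (bTwo g : ℂ) := by
  have h := CharInd.genChar_mul (CharInd.genChar_irr (Char.isIrrCharacter_monoidHom detSign))
    genChar_bOne
  refine (congrArg (IsGeneralizedCharacter H) (funext fun g => ?_)).mp h
  obtain ⟨i, rfl⟩ := el_surjective g
  rw [Pi.mul_apply, detSign_eq, bTwo_eq_aux]
  push_cast
  rfl

/-- Sums against a class function, from the weights of the classes. -/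
theorem weighted_sum {ψ : H → ℂ} (hψ : IsClassFunction H ψ) (w : Fin 48 → ℤ) (c : Fin 8 → ℤ)
    (hc : ∀ k, ∑ i ∈ Finset.univ.filter (fun i => cls (el i) = k), w i = c k) :
    ∑ i, (w i : ℂ) * ψ (el i) = ∑ k, (c k : ℂ) * ψ (rep k) := by
  rw [← Finset.sum_fiberwise Finset.univ (fun i => cls (el i))]
  refine Finset.sum_congr rfl fun k _ => ?_
  rw [← hc k, Int.cast_sum, Finset.sum_mul]
  refine Finset.sum_congr rfl fun i hi => ?_
  rw [← (Finset.mem_filter.1 hi).2,
    Cfsg.Agent.Char.isClassFunction_eq_of_isConj hψ (isConj_rep (el i))]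

theorem weights_bOne : ∀ k, ∑ i ∈ Finset.univ.filter (fun i => cls (el i) = k), bOne (el i) =
    ![0, 0, 0, 24, 12, 12, 0, 0] k := by decide +kernel

theorem weights_bTwo : ∀ k, ∑ i ∈ Finset.univ.filter (fun i => cls (el i) = k), bTwo (el i) =
    ![0, 0, 0, 24, -12, -12, 0, 0] k := by decide +kernel

theorem weights_sylow : ∀ k, ∑ i ∈ Finset.univ.filter (fun i => cls (el i) = k),
    (if el i ∈ sylow then 1 else 0 : ℤ) = ![1, 1, 4, 6, 2, 2, 0, 0] k := by decide +kernel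

theorem weights_sylow_det : ∀ k, ∑ i ∈ Finset.univ.filter (fun i => cls (el i) = k),
    (if el i ∈ sylow then detInt (el i) else 0 : ℤ) = ![1, 1, -4, 6, -2, -2, 0, 0] k := by
  decide +kernel

theorem norms : ∑ i, bOne (el i) * bOne (el i) = 144 ∧ ∑ i, bTwo (el i) * bTwo (el i) = 144 ∧
    ∑ i, bOne (el i) * bTwo (el i) = 48 ∧ ∑ i, bOne (el i) = 48 ∧ ∑ i, bTwo (el i) = 0 := by
  decide +kernel

theorem pair_sums :
    (∑ i, ∑ k, if el i * el i = 1 ∧ el i ≠ 1 ∧ el k * el k = 1 ∧ el k ≠ 1 then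
      bOne (el i * el k) else 0) = 96 ∧
    (∑ i, ∑ k, if el i * el i = 1 ∧ el i ≠ 1 ∧ el k * el k = 1 ∧ el k ≠ 1 then
      bTwo (el i * el k) else 0) = 96 := by decide +kernel

theorem neg_one_facts : (-1 : H) * -1 = 1 ∧ (-1 : H) ≠ 1 ∧ (-1 : H) ∈ sylow ∧
    bOne (-1) = 0 ∧ bTwo (-1) = 0 ∧ bOne 1 = 0 ∧ bTwo 1 = 0 := by decide +kernel

theorem eq_neg_one_of_center : ∀ i, (∀ k, el k * el i = el i * el k) → el i * el i = 1 →
    el i ≠ 1 → el i = -1 := by decide +kernel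

theorem eq_neg_one_of_centralizes_sylow : ∀ i, (∀ k, el k ∈ sylow → el k * el i = el i * el k) →
    el i * el i = 1 → el i ≠ 1 → el i = -1 := by decide +kernel

theorem involution_cases : ∀ i, el i * el i = 1 → el i ≠ 1 →
    el i = -1 ∨ cls (el i) = 2 := by decide +kernel

theorem s0_facts : s0 * s0 = 1 ∧ s0 ≠ 1 ∧ s0 ∈ sylow ∧ detInt s0 = -1 := by decide +kernel

theorem det_one_involution : ∀ i, detInt (el i) = 1 → el i * el i = 1 → el i ≠ 1 →
    el i = -1 := by decide +kernel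

theorem card_sylow_detOne :
    (Finset.univ.filter fun i => el i ∈ sylow ∧ detInt (el i) = 1).card = 8 := by decide +kernel

theorem bOne_ne_zero : ∀ i, bOne (el i) ≠ 0 ∨ bTwo (el i) ≠ 0 →
    el i * el i = -1 ∨ el i * el i * (el i * el i) = -1 := by decide +kernel

end Cfsg.Agent.GLTwoThree
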