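import Cfsg.Agent.GLTwoThree.Concrete
import Cfsg.Agent.CharInd.TI
import Cfsg.Agent.BlocksChar.ClassProd
import Cfsg.Agent.SmallGroups.Involution
import Cfsg.Agent.Char.Kernel
import Cfsg.Agent.Char.Virtual
import Cfsg.Agent.S0111

/-!
# An involution with centralizer `GL (2, 3)`
-/

set_option autoImplicit false
set_option linter.unusedSectionVars false
set_option linter.style.haveILetI false

noncomputable section

namespace Cfsg.Agent.GLTwoThree

open scoped ComplexConjugate
open Subgroup

universe u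

variable {G : Type u} [Group G] {t : G} (e : centralizer ({t} : Set G) ≃* H)

/-- The embedding of `GL (2, 3)`. -/
def jHom : H →* G := (centralizer ({t} : Set G)).subtype.comp e.symm.toMonoidHom

theorem jHom_injective : Function.Injective (jHom e) :=
  Subtype.val_injective.comp e.symm.injective

theorem jHom_mem (x : H) : jHom e x ∈ centralizer ({t} : Set G) := (e.symm x).2

theorem e_jHom (x : H) (h : jHom e x ∈ centralizer ({t} : Set G)) : e ⟨jHom e x, h⟩ = x := by
  rw [show (⟨jHom e x, h⟩ : centralizer ({t} : Set G)) = e.symm x from Subtype.ext rfl,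
    e.apply_symm_apply]

theorem jHom_e (c : centralizer ({t} : Set G)) : jHom e (e c) = c := by
  show ((e.symm (e c)) : G) = _
  rw [e.symm_apply_apply]

theorem exists_el_of_mem {x : G} (hx : x ∈ centralizer ({t} : Set G)) :
    ∃ i, jHom e (el i) = x := by
  obtain ⟨i, hi⟩ := el_surjective (e ⟨x, hx⟩)
  exact ⟨i, by rw [hi, jHom_e]⟩

variable (ht : orderOf t = 2)

include ht in
theorem t_mul_self : t * t = 1 := by rw [← pow_two, ← ht, pow_orderOf_eq_one]

include ht in
theorem t_ne_one : t ≠ 1 := fun h => by rw [h, orderOf_one] at ht; omega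

include ht in
theorem jHom_neg_one : jHom e (-1) = t := by
  have htm : t ∈ centralizer ({t} : Set G) := mem_centralizer_singleton_iff.2 rfl
  obtain ⟨i, hi⟩ := exists_el_of_mem e htm
  have hsq : el i * el i = 1 := jHom_injective e (by rw [map_mul, hi, t_mul_self ht, map_one])
  have hne : el i ≠ 1 := fun h => t_ne_one ht (by rw [← hi, h, map_one])
  have hc : ∀ k, el k * el i = el i * el k := fun k => jHom_injective e (by
    rw [map_mul, map_mul, hi]; exact mem_centralizer_singleton_iff.1 (jHom_mem e _))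
  rw [← eq_neg_one_of_center i hc hsq hne, hi]

include e in
theorem natCard_centralizer : Nat.card (centralizer ({t} : Set G)) = 48 :=
  (Nat.card_congr e.toEquiv).trans natCard_H

variable [Finite G]

include e in
theorem card_eq : Nat.card G = 48 * (centralizer ({t} : Set G)).index := by
  rw [← card_mul_index (centralizer ({t} : Set G)), natCard_centralizer e]

/-- The image of a Sylow subgroup. -/
def sylowG : Subgroup G := sylow.map (jHom e)

theorem card_sylowG : Nat.card (sylowG e) = 16 := by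
  rw [sylowG, Nat.card_congr (sylow.equivMapOfInjective _ (jHom_injective e)).toEquiv.symm,
    natCard_sylow]

include e ht in
theorem index_odd : Odd (centralizer ({t} : Set G)).index := by
  by_contra h
  rw [Nat.not_odd_iff_even, even_iff_two_dvd] at h
  haveI : Fact (Nat.Prime 2) := ⟨Nat.prime_two⟩
  have h32 : 2 ^ 5 ∣ Nat.card G := by
    rw [card_eq e]
    obtain ⟨m, hm⟩ := h
    exact ⟨3 * m, by rw [hm]; ring⟩
  obtain ⟨P, hP⟩ := (IsPGroup.of_card (show Nat.card (sylowG e) = 2 ^ 4 by
    rw [card_sylowG]; rfl)).exists_le_sylow (p := 2)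
  have hP32 : 2 ^ 5 ∣ Nat.card P := P.pow_dvd_card_of_pow_dvd_card h32
  haveI : Nontrivial P := Finite.one_lt_card_iff_nontrivial.1
    (lt_of_lt_of_le (by norm_num) (Nat.le_of_dvd Nat.card_pos hP32))
  haveI := P.2.center_nontrivial
  have h2 : 2 ∣ Nat.card (Subgroup.center P) := by
    obtain ⟨k, hk⟩ := IsPGroup.iff_card.1 (P.2.to_subgroup (Subgroup.center P))
    have := Finite.one_lt_card (α := Subgroup.center P)
    rcases k with _ | k
    · rw [hk] at this; omega
    · rw [hk, pow_succ]; exact dvd_mul_left 2 _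
  obtain ⟨z, hz⟩ := exists_prime_orderOf_dvd_card' 2 h2
  set x : G := ((z : P) : G) with hx
  have hcomm : ∀ y : G, y ∈ (P : Subgroup G) → y * x = x * y := fun y hy =>
    congrArg Subtype.val (Subgroup.mem_center_iff.1 z.2 ⟨y, hy⟩)
  have htP : t ∈ (P : Subgroup G) := hP ⟨-1, neg_one_facts.2.2.1, jHom_neg_one e ht⟩
  have hxC : x ∈ centralizer ({t} : Set G) :=
    mem_centralizer_singleton_iff.2 (hcomm t htP).symm
  obtain ⟨i, hi⟩ := exists_el_of_mem e hxC
  have hxo : orderOf x = 2 := by rw [hx, Subgroup.orderOf_coe, Subgroup.orderOf_coe, hz]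
  have hsq : el i * el i = 1 := jHom_injective e (by
    rw [map_mul, hi, map_one, ← pow_two]
    exact orderOf_dvd_iff_pow_eq_one.1 (dvd_of_eq hxo))
  have hne : el i ≠ 1 := fun h => by
    rw [← hi, h, map_one, orderOf_one] at hxo; omega
  have hc : ∀ k, el k ∈ sylow → el k * el i = el i * el k := fun k hk => jHom_injective e (by
    rw [map_mul, map_mul, hi]; exact hcomm _ (hP ⟨_, hk, rfl⟩))
  have hxt : x = t := by
    rw [← hi, eq_neg_one_of_centralizes_sylow i hc hsq hne, jHom_neg_one e ht]
  have hle : (P : Subgroup G) ≤ centralizer ({t} : Set G) := fun y hy =>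
    mem_centralizer_singleton_iff.2 (hxt ▸ hcomm y hy)
  have := hP32.trans ((Subgroup.card_dvd_of_le hle).trans (natCard_centralizer e).dvd)
  norm_num at this

include ht in
/-- All involutions of the centralizer are conjugate to `t`. -/
theorem isConj_of_involution_index {i : Fin 48} (hno : ∀ M : Subgroup G, M.Normal → M.index ≠ 2)
    (hsq : el i * el i = 1) (hne : el i ≠ 1) : IsConj t (jHom e (el i)) := by
  rcases involution_cases i hsq hne with h | h
  · rw [h, jHom_neg_one e ht]
  have hconj : IsConj (jHom e s0) (jHom e (el i)) := by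
    have := isConj_rep (el i)
    rw [h, show rep 2 = s0 from rfl] at this
    exact (jHom e).map_isConj this
  refine IsConj.trans ?_ hconj
  haveI : Fact (Nat.Prime 2) := ⟨Nat.prime_two⟩
  obtain ⟨P, hP⟩ := (IsPGroup.of_card (show Nat.card (sylowG e) = 2 ^ 4 by
    rw [card_sylowG]; rfl)).exists_le_sylow (p := 2)
  have hPS : (P : Subgroup G) = sylowG e := by
    refine (Subgroup.eq_of_le_of_card_ge hP ?_).symm
    obtain ⟨k, hk⟩ := IsPGroup.iff_card.1 P.2
    rw [card_sylowG, hk]
    by_contra hlt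
    have hk5 : 5 ≤ k := by
      by_contra h5
      have h16 : 2 ^ k ≤ 2 ^ 4 := Nat.pow_le_pow_right (by norm_num) (by omega)
      omega
    have h32 : 2 ^ 5 ∣ 48 * (centralizer ({t} : Set G)).index :=
      card_eq e ▸ (pow_dvd_pow 2 hk5).trans (hk ▸ Subgroup.card_subgroup_dvd_card _)
    obtain ⟨m, hm⟩ := index_odd e ht
    omega
  set Q0 : Subgroup H := sylow ⊓ detSign.ker with hQ0
  have hdet : ∀ g : H, g ∈ detSign.ker ↔ detInt g = 1 := fun g => by
    rw [MonoidHom.mem_ker, ← Units.val_eq_one, detSign_eq, Int.cast_eq_one]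
  haveI : DecidablePred (· ∈ Q0) := fun g =>
    decidable_of_iff (g ∈ sylow ∧ detInt g = 1) ((and_congr_right' (hdet g).symm).trans Subgroup.mem_inf.symm)
  have hQcard : Nat.card Q0 = 8 := by
    rw [natCard_sub Q0, ← card_sylow_detOne]
    congr 1
    refine Finset.filter_congr fun k _ => ?_
    rw [hQ0, Subgroup.mem_inf, hdet]
  set Q : Subgroup G := Q0.map (jHom e) with hQ
  have hQP : Q ≤ (P : Subgroup G) := hPS ▸ Subgroup.map_mono inf_le_left
  have hQi : Q.relIndex (P : Subgroup G) = 2 := by
    have h1 := Subgroup.card_mul_index (Q.subgroupOf (P : Subgroup G))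
    rw [Nat.card_congr (Subgroup.subgroupOfEquivOfLe hQP).toEquiv, hQ,
      Nat.card_congr (Q0.equivMapOfInjective _ (jHom_injective e)).toEquiv.symm, hQcard, hPS,
      card_sylowG] at h1
    show (Q.subgroupOf (P : Subgroup G)).index = 2
    rw [hQ, hPS]
    omega
  have hs : orderOf (jHom e s0) = 2 := by
    rw [orderOf_injective _ (jHom_injective e)]
    exact orderOf_eq_prime (by rw [pow_two]; exact s0_facts.1) s0_facts.2.1
  have hsQ : jHom e s0 ∉ Q := by
    rintro ⟨g, hg, hge⟩
    rw [jHom_injective e hge] at hg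
    have := (hdet s0).1 hg.2
    rw [s0_facts.2.2.2] at this
    omega
  rcases Cfsg.Agent.S0111.result P Q hQP hQi (jHom e s0) hs
      (hPS ▸ ⟨s0, s0_facts.2.2.1, rfl⟩) hsQ with ⟨M, hM, hMi, -⟩ | ⟨g, hg⟩
  · exact absurd hMi (hno M hM)
  · obtain ⟨x, hx, hxe⟩ := hg
    obtain ⟨k, rfl⟩ := el_surjective x
    have ho : orderOf (el k) = 2 := by
      rw [← orderOf_injective _ (jHom_injective e), hxe, ← MulAut.conj_apply, MulEquiv.orderOf_eq,
        hs]
    have hk : el k = -1 := det_one_involution k ((hdet _).1 hx.2)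
      (by rw [← pow_two]; exact orderOf_dvd_iff_pow_eq_one.1 (dvd_of_eq ho))
      (fun h1 => by rw [h1, orderOf_one] at ho; omega)
    rw [hk, jHom_neg_one e ht] at hxe
    exact isConj_iff.2 ⟨g⁻¹, (congrArg (fun z => g⁻¹ * z * g⁻¹⁻¹) hxe).trans (by group)⟩

include ht in
/-- The same in a simple group. -/
theorem isConj_of_involution [IsSimpleGroup G] {i : Fin 48} (hsq : el i * el i = 1)
    (hne : el i ≠ 1) : IsConj t (jHom e (el i)) := by
  refine isConj_of_involution_index e ht (fun M hM hMi => ?_) hsq hne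
  rcases hM.eq_bot_or_eq_top with rfl | rfl
  · rw [Subgroup.index_bot, card_eq e] at hMi; omega
  · rw [Subgroup.index_top] at hMi; omega

/-- A special function of the centralizer, induced. -/
def special [Fintype G] (f : H → ℤ) : G → ℂ :=
  Cfsg.indFun (centralizer ({t} : Set G)) fun c => (f (e c) : ℂ)

/-- The hypotheses on a special function. -/
structure Good (f : H → ℤ) : Prop where
  gen : IsGeneralizedCharacter H fun g => (f g : ℂ)
  supp : ∀ x, f x ≠ 0 → x * x = -1 ∨ x * x * (x * x) = -1
  pairs : (∑ i, ∑ k, if el i * el i = 1 ∧ el i ≠ 1 ∧ el k * el k = 1 ∧ el k ≠ 1 then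
      f (el i * el k) else 0) = 96

theorem good_bOne : Good bOne :=
  ⟨genChar_bOne, el_surjective.forall.2 fun i h => bOne_ne_zero i (Or.inl h), pair_sums.1⟩

theorem good_bTwo : Good bTwo :=
  ⟨genChar_bTwo, el_surjective.forall.2 fun i h => bOne_ne_zero i (Or.inr h), pair_sums.2⟩

theorem Good.eq_zero {f : H → ℤ} (hf : Good f) {x : H} (h : x * x = 1) : f x = 0 := by
  by_contra hne
  rcases hf.supp x hne with h' | h' <;> rw [h] at h'
  · exact neg_one_facts.2.1 h'.symm
  · rw [one_mul] at h'; exact neg_one_facts.2.1 h'.symm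

theorem classFun_pull {f : H → ℤ} (hf : Good f) :
    IsClassFunction (centralizer ({t} : Set G)) fun c => (f (e c) : ℂ) := fun a b => by
  simp only [map_mul, map_inv]
  exact Char.isGeneralizedCharacter_isClassFunction hf.gen (e a) (e b)

variable [Fintype G]

theorem sum_centralizer [Fintype (centralizer ({t} : Set G))]
    (F : centralizer ({t} : Set G) → ℂ) :
    ∑ c, F c = ∑ i, F (e.symm (el i)) :=
  ((elEquiv.trans e.symm.toEquiv).sum_comp F).symm

theorem genChar_special {f : H → ℤ} (hf : Good f) :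
    IsGeneralizedCharacter G (special e f) :=
  CharInd.genChar_indFun _ (Char.isGeneralizedCharacter_comp hf.gen e.toMonoidHom)

theorem coef_sum {f : H → ℤ} (χ : IrrCharacter G) :
    (48 : ℂ) * classInner (χ : G → ℂ) (special e f) =
      ∑ i, (f (el i) : ℂ) * (χ : G → ℂ) (jHom e (el i)) := by
  letI := Fintype.ofFinite (centralizer ({t} : Set G))
  rw [special, CharInd.classInner_indFun_right _ _ (Char.irr_isClassFunction χ.2), classInner,
    natCard_centralizer e, Nat.cast_ofNat, mul_inv_cancel_left₀ (by norm_num), sum_centralizer e]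
  refine Finset.sum_congr rfl fun i _ => ?_
  rw [e.apply_symm_apply, map_intCast, mul_comm]
  rfl

theorem exists_coef {f : H → ℤ} (hf : Good f) :
    ∃ b : IrrCharacter G → ℤ, (∀ χ : IrrCharacter G, classInner (χ : G → ℂ) (special e f) = b χ) ∧
      special e f = fun g => ∑ χ, (b χ : ℂ) * (χ : G → ℂ) g := by
  choose b hb using Char.isGeneralizedCharacter_classInner_int (genChar_special e hf)
  refine ⟨b, fun χ => ?_, ?_⟩
  · rw [← Char.classInner_conj, hb, map_intCast]
  · conv_lhs => rw [Char.eq_sum_classInner_smul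
      (Char.isGeneralizedCharacter_isClassFunction (genChar_special e hf))]
    funext g
    simp [Finset.sum_apply, hb]

include ht in
theorem special_eq_zero {f : H → ℤ} (hf : Good f) {g : G} (hg : g * g = 1) :
    special e f g = 0 := by
  classical
  rw [special, CharInd.indFun_apply, Finset.sum_eq_zero, mul_zero]
  intro x _
  by_cases h : x⁻¹ * g * x ∈ centralizer ({t} : Set G)
  · rw [CharInd.extendByZero_mem _ _ h, hf.eq_zero, Int.cast_zero]
    apply jHom_injective e
    rw [map_mul, jHom_e, map_one]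
    show x⁻¹ * g * x * (x⁻¹ * g * x) = 1
    rw [show x⁻¹ * g * x * (x⁻¹ * g * x) = x⁻¹ * (g * g) * x by group, hg, mul_one, inv_mul_cancel]
  · exact CharInd.extendByZero_notMem _ _ h

/-- The support set. -/
def suppSet (t : G) : Set G := {a | a * a = t ∨ a * a * (a * a) = t}

include ht in
theorem mem_suppSet {f : H → ℤ} (hf : Good f) (c : centralizer ({t} : Set G))
    (hc : (c : G) ∉ suppSet t) : f (e c) = 0 := by
  by_contra hne
  apply hc
  rcases hf.supp _ hne with h | h
  · exact Or.inl (by rw [← jHom_e e c, ← map_mul, h, jHom_neg_one e ht])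
  · exact Or.inr (by rw [← jHom_e e c, ← map_mul, ← map_mul, h, jHom_neg_one e ht])

include ht in
theorem supp_commute {a : G} (ha : a ∈ suppSet t) : a * t = t * a := by
  rcases ha with h | h <;> rw [← h] <;> group

include ht in
theorem supp_ti (g : G) (hg : g ∉ centralizer ({t} : Set G)) :
    ∀ a ∈ suppSet t, g * a * g⁻¹ ∈ suppSet t → a = 1 := by
  intro a ha hb
  exfalso
  apply hg
  rw [mem_centralizer_singleton_iff]
  have h2 : g * a * g⁻¹ * (g * a * g⁻¹) = g * (a * a) * g⁻¹ := by group
  have h4 : g * a * g⁻¹ * (g * a * g⁻¹) * (g * a * g⁻¹ * (g * a * g⁻¹)) =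
      g * (a * a * (a * a)) * g⁻¹ := by group
  suffices g * t * g⁻¹ = t by
    calc g * t = g * t * g⁻¹ * g := by group
      _ = t * g := by rw [this]
  rcases ha with ha | ha <;> rcases hb with hb | hb
  · rwa [h2, ha] at hb
  · rw [h4, ha, t_mul_self ht, mul_one, mul_inv_cancel] at hb
    exact absurd hb.symm (t_ne_one ht)
  · have h5 : g * t * g⁻¹ = t * t := by rw [hb, ha] at h4; exact h4.symm
    rw [t_mul_self ht, conj_eq_one_iff] at h5
    exact absurd h5 (t_ne_one ht)
  · rwa [h4, ha] at hb

include ht in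
theorem inner_special {f f' : H → ℤ} (hf : Good f) (hf' : Good f') :
    classInner (special e f) (special e f') =
      (48 : ℂ)⁻¹ * ((∑ i, f (el i) * f' (el i) : ℤ) : ℂ) := by
  letI := Fintype.ofFinite (centralizer ({t} : Set G))
  rw [special, special, CharInd.classInner_indFun_ti _ (suppSet t) (supp_ti ht)
    (classFun_pull e hf') (fun c hc => by rw [mem_suppSet e ht hf c hc, Int.cast_zero])
    (fun c hc => by rw [mem_suppSet e ht hf' c hc, Int.cast_zero])
    (by rw [map_one, hf.eq_zero (mul_one 1), Int.cast_zero]),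
    classInner, natCard_centralizer e, Nat.cast_ofNat, sum_centralizer e, Int.cast_sum]
  congr 1
  refine Finset.sum_congr rfl fun i _ => ?_
  simp

include ht in
/-- The class multiplication identity. -/
theorem sum_special_pairs [IsSimpleGroup G] {f : H → ℤ} (hf : Good f) :
    ∑ g : G, special e f (t * (g * t * g⁻¹)) = 4608 := by
  classical
  set K : Finset G := Finset.univ.image fun h : G => h * t * h⁻¹ with hK
  set φ : G → ℂ := Cfsg.extendByZero (centralizer ({t} : Set G)) fun c => (f (e c) : ℂ) with hφ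
  have hfib : ∀ F : G → ℂ, ∑ h : G, F (h * t * h⁻¹) = 48 * ∑ x ∈ K, F x := by
    intro F
    rw [← Finset.sum_fiberwise_of_maps_to (g := fun h : G => h * t * h⁻¹) (t := K)
      (fun h _ => Finset.mem_image_of_mem _ (Finset.mem_univ h)), Finset.mul_sum]
    refine Finset.sum_congr rfl fun x hx => ?_
    obtain ⟨k₀, -, rfl⟩ := Finset.mem_image.1 hx
    rw [Finset.sum_congr rfl (g := fun _ => F (k₀ * t * k₀⁻¹)) (fun h hh => by
      rw [(Finset.mem_filter.1 hh).2]), Finset.sum_const, nsmul_eq_mul]
    congr 1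
    rw [show (48 : ℂ) = ((48 : ℕ) : ℂ) by norm_num, ← natCard_centralizer e]
    exact congrArg _ (by convert SmallGroups.Exceptional.card_conj_fiber t k₀)
  have hstep : ∀ g : G, special e f (t * (g * t * g⁻¹)) =
      (48 : ℂ)⁻¹ * ∑ h : G, φ ((h * t * h⁻¹) * ((h * g) * t * (h * g)⁻¹)) := by
    intro g
    rw [special, CharInd.indFun_apply, natCard_centralizer e, Nat.cast_ofNat, hφ]
    congr 1
    rw [← Equiv.sum_comp (Equiv.inv G)]
    refine Finset.sum_congr rfl fun h _ => ?_
    congr 1
    simp only [Equiv.inv_apply]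
    group
  rw [Finset.sum_congr rfl fun g _ => hstep g, ← Finset.mul_sum, Finset.sum_comm,
    Finset.sum_congr rfl (g := fun h : G => 48 * ∑ y ∈ K, φ ((h * t * h⁻¹) * y)) (fun h _ => by
      rw [← hfib fun y => φ ((h * t * h⁻¹) * y),
        ← Equiv.sum_comp (Equiv.mulLeft h) fun x => φ ((h * t * h⁻¹) * (x * t * x⁻¹))]
      rfl),
    hfib (fun x => 48 * ∑ y ∈ K, φ (x * y)), ← Finset.mul_sum]
  have hmemK : ∀ x : G, x ∈ K ↔ IsConj t x := fun x => by
    rw [hK, Finset.mem_image, isConj_iff]
    exact ⟨fun ⟨c, _, hc⟩ => ⟨c, hc⟩, fun ⟨c, hc⟩ => ⟨c, Finset.mem_univ _, hc⟩⟩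
  have hKinv : ∀ x ∈ K, x * x = 1 ∧ x ≠ 1 := fun x hx => by
    obtain ⟨c, rfl⟩ := isConj_iff.1 ((hmemK x).1 hx)
    refine ⟨?_, fun h => t_ne_one ht (conj_eq_one_iff.1 h)⟩
    rw [show c * t * c⁻¹ * (c * t * c⁻¹) = c * (t * t) * c⁻¹ by group, t_mul_self ht, mul_one,
      mul_inv_cancel]
  set I : Finset (Fin 48) := Finset.univ.filter fun i => el i * el i = 1 ∧ el i ≠ 1 with hI
  have himg : I.image (fun i => jHom e (el i)) = K.filter (· ∈ (centralizer ({t} : Set G))) := by
    ext x
    simp only [Finset.mem_image, Finset.mem_filter, hI, Finset.mem_univ, true_and]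
    constructor
    · rintro ⟨i, ⟨h1, h2⟩, rfl⟩
      exact ⟨(hmemK _).2 (isConj_of_involution e ht h1 h2), jHom_mem e _⟩
    · rintro ⟨hx, hxC⟩
      obtain ⟨i, rfl⟩ := exists_el_of_mem e hxC
      obtain ⟨h1, h2⟩ := hKinv _ hx
      exact ⟨i, ⟨jHom_injective e (by rw [map_mul, h1, map_one]),
        fun h => h2 (by rw [h, map_one])⟩, rfl⟩
  have hvan : ∀ x ∈ K, ∀ y ∈ K, φ (x * y) ≠ 0 → x ∈ (centralizer ({t} : Set G)) ∧ y ∈ (centralizer ({t} : Set G)) := by
    intro x hx y hy hne
    have hmem : x * y ∈ (centralizer ({t} : Set G)) := by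
      by_contra h
      exact hne (CharInd.extendByZero_notMem _ _ h)
    have hs : x * y ∈ suppSet t := by
      by_contra h
      rw [hφ, CharInd.extendByZero_mem _ _ hmem, mem_suppSet e ht hf ⟨_, hmem⟩ h,
        Int.cast_zero] at hne
      exact hne rfl
    obtain ⟨hxx, -⟩ := hKinv x hx
    obtain ⟨hyy, -⟩ := hKinv y hy
    have hxi : x⁻¹ = x := inv_eq_of_mul_eq_one_right hxx
    have hyi : y⁻¹ = y := inv_eq_of_mul_eq_one_right hyy
    have hinv : x * (x * y) * x⁻¹ = (x * y)⁻¹ := by
      rw [mul_inv_rev, hxi, hyi, ← mul_assoc, hxx, one_mul]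
    have ht' : x * t * x⁻¹ = t := by
      have key : ∀ a : G, x * a * x⁻¹ = a⁻¹ → x * (a * a) * x⁻¹ = (a * a)⁻¹ := fun a ha => by
        rw [show x * (a * a) * x⁻¹ = x * a * x⁻¹ * (x * a * x⁻¹) by group, ha, mul_inv_rev]
      have hti : t⁻¹ = t := inv_eq_of_mul_eq_one_right (t_mul_self ht)
      rcases hs with h | h
      · rw [← h, key _ hinv, h, hti]
      · rw [← h, key _ (key _ hinv), h, hti]
    have hxC : x ∈ (centralizer ({t} : Set G)) := by
      rw [mem_centralizer_singleton_iff]
      exact (mul_inv_eq_iff_eq_mul.1 ht')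
    exact ⟨hxC, ((centralizer ({t} : Set G)).mul_mem_cancel_left hxC).1 hmem⟩
  have hmain : ∑ x ∈ K, ∑ y ∈ K, φ (x * y) = 96 := by
    have hinj : Set.InjOn (fun i => jHom e (el i)) I := fun a _ b _ h =>
      el_injective (jHom_injective e h)
    rw [← Finset.sum_subset (Finset.filter_subset (· ∈ (centralizer ({t} : Set G))) K) (fun x hx hnx => by
        refine Finset.sum_eq_zero fun y hy => ?_
        by_contra h
        exact hnx (Finset.mem_filter.2 ⟨hx, (hvan x hx y hy h).1⟩)),
      ← himg, Finset.sum_image hinj]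
    have hp := congrArg (fun z : ℤ => (z : ℂ)) hf.pairs
    push_cast at hp
    rw [← hp, hI, Finset.sum_filter]
    refine Finset.sum_congr rfl fun i _ => ?_
    split_ifs with hi
    · rw [← Finset.sum_subset (Finset.filter_subset (· ∈ (centralizer ({t} : Set G))) K) (fun y hy hny => by
          by_contra h
          exact hny (Finset.mem_filter.2 ⟨hy, (hvan _ ((hmemK _).2
            (isConj_of_involution e ht hi.1 hi.2)) y hy h).2⟩)),
        ← himg, Finset.sum_image hinj, hI, Finset.sum_filter]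
      refine Finset.sum_congr rfl fun k _ => ?_
      split_ifs with hk hk' hk'
      · rw [← map_mul, hφ, CharInd.extendByZero_mem _ _ (jHom_mem e _), e_jHom]
      · exact absurd ⟨hi.1, hi.2, hk⟩ hk'
      · exact absurd ⟨hk'.2.2.1, hk'.2.2.2⟩ hk
      · rfl
    · refine (Finset.sum_eq_zero fun k _ => ?_).symm
      rw [if_neg fun h => hi ⟨h.1, h.2.1⟩]
  rw [hmain]
  norm_num

end Cfsg.Agent.GLTwoThree
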